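import Mathlib
import Cfsg.Prelude.Def_GeometricClasses
import Cfsg.Agent.Lib.Helper13.S5955.Defs2
import Cfsg.Agent.Lib.Helper16.SpinG2

set_option autoImplicit false

/-!
# Project S5972 (designer helper15): definitions.
`Ω_{2d+1}(q)`, `q` odd, on totally singular `m`-spaces: elements of prime order.

The abstract orthogonal context `OCtx` is the symmetric twin of helper13's `SCtx` (project S5955), whose
vocabulary (`STI`, `SND`, `SOrth`, `SInv`, `fixS`, `cycS`, `TId`) is reused as it is (these do not mention `alt`).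
-/

namespace Cfsg.Agent.Lib.helper15.S5972

open Polynomial Module Cfsg.Agent.Lib.Helper13.S5955

variable {F : Type*} [Field F] {V : Type*} [AddCommGroup V] [Module F V]

/-- the abstract orthogonal context: `B` symmetric non-degenerate, `x` an isometry with `x ^ r = 1` -/
structure OCtx (r : ℕ) (B : LinearMap.BilinForm F V) (x : Module.End F V) : Prop where
  symm : ∀ u v, B u v = B v u
  nd : ∀ u, (∀ v, B u v = 0) → u = 0
  pres : ∀ u v, B (x u) (x v) = B u v
  pow : x ^ r = 1

/-- the form `(u, v) ↦ B u ((x - x ^ (r - 1)) v)`: alternating and `x`-invariant when `B` is symmetric,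
`x` an isometry with `x ^ r = 1` (so `x ^ (r - 1) = x⁻¹`) -/
noncomputable def altB (B : LinearMap.BilinForm F V) (x : Module.End F V) (r : ℕ) :
    LinearMap.BilinForm F V :=
  LinearMap.compl₂ B (x - x ^ (r - 1))

theorem altB_apply (B : LinearMap.BilinForm F V) (x : Module.End F V) (r : ℕ) (u v : V) :
    altB B x r u v = B u (x v - (x ^ (r - 1)) v) := rfl

/-- the polar form of the standard quadratic form `x₀² + Σ xᵢ yᵢ` as a Mathlib bilinear form -/
noncomputable def stdO (d : ℕ) (F : Type*) [Field F] :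
    LinearMap.BilinForm F (Unit ⊕ (Fin d ⊕ Fin d) → F) :=
  QuadraticMap.polarBilin (Cfsg.Agent.Lib.Helper16.qfOdd d F)

theorem stdO_apply (d : ℕ) (u v : Unit ⊕ (Fin d ⊕ Fin d) → F) :
    stdO d F u v =
      Cfsg.quadFormOdd d F (u + v) - Cfsg.quadFormOdd d F u - Cfsg.quadFormOdd d F v := rfl

/-- the set of totally singular `m`-spaces of the standard space, as in the frozen statement -/
abbrev TSm (d m : ℕ) (F : Type*) [Field F] : Type _ :=
  {W : Submodule F (Unit ⊕ (Fin d ⊕ Fin d) → F) //
    Module.finrank F ↥W = m ∧ (∀ w ∈ W, Cfsg.quadFormOdd d F w = 0)}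

/-- the orthogonal sum of a standard `2h`-space (carrying a form attached to `y`) and a `k`-space
(carrying the dot product) -/
abbrev OS2 (F : Type*) [Field F] (h k : ℕ) : Type _ :=
  (Fin h ⊕ Fin h → F) × (Fin k → F)

/-- the symmetric form `altB (stdB h F) y r ⟂ dot product` on `OS2 F h k`:
`((u, a), (v, b)) ↦ stdB u (y v - y ^ (r - 1) v) + a ⬝ᵥ b` -/
noncomputable def os2B {h : ℕ} (y : Module.End F (Fin h ⊕ Fin h → F)) (r k : ℕ) :
    LinearMap.BilinForm F (OS2 F h k) :=
  LinearMap.mk₂ F
    (fun u v => altB (stdB h F) y r u.1 v.1 + u.2 ⬝ᵥ v.2)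
    (fun u u' v => by
      simp only [Prod.fst_add, Prod.snd_add, map_add, LinearMap.add_apply, add_dotProduct]
      ring)
    (fun c u v => by
      simp only [Prod.smul_fst, Prod.smul_snd, map_smul, LinearMap.smul_apply, smul_dotProduct,
        smul_eq_mul]
      ring)
    (fun u v v' => by
      simp only [Prod.fst_add, Prod.snd_add, map_add, dotProduct_add]
      ring)
    (fun c u v => by
      simp only [Prod.smul_fst, Prod.smul_snd, map_smul, dotProduct_smul, smul_eq_mul]
      ring)

theorem os2B_apply {h : ℕ} (y : Module.End F (Fin h ⊕ Fin h → F)) (r k : ℕ) (u v : OS2 F h k) :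
    os2B y r k u v = altB (stdB h F) y r u.1 v.1 + u.2 ⬝ᵥ v.2 := rfl

/-- the map `y ⊕ 1` on `OS2 F h k` -/
noncomputable def os2X {h : ℕ} (y : Module.End F (Fin h ⊕ Fin h → F)) (k : ℕ) :
    Module.End F (OS2 F h k) :=
  LinearMap.prodMap y LinearMap.id

theorem os2X_apply {h : ℕ} (y : Module.End F (Fin h ⊕ Fin h → F)) (k : ℕ) (u : OS2 F h k) :
    os2X y k u = (y u.1, u.2) := rfl

end Cfsg.Agent.Lib.helper15.S5972
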